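import Groth.Agent.Lib.K0Cat.Basic
import Groth.Agent.Lib.KFlat.Brutal
import Groth.Agent.Lib.DPerf.Top
import Groth.Agent.Lib.DPerf.Single
import Groth.Agent.Lib.DGen9.ResCluster
import Groth.Agent.S1036
import Groth.Agent.S1037
import Mathlib.Algebra.Homology.DerivedCategory.SingleTriangle
import Mathlib.Algebra.BigOperators.Finprod
import Mathlib.Algebra.Ring.NegOnePow
import Mathlib.Data.Int.Interval

/-!
`K₀` of vector bundles is `K₀` of perfect complexes, given the resolution property.
-/

set_option autoImplicit false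
set_option linter.unusedSectionVars false
set_option linter.style.haveILetI false
set_option backward.isDefEq.respectTransparency false

universe u

open CategoryTheory CategoryTheory.Limits CategoryTheory.Pretriangulated AlgebraicGeometry ZeroObject

attribute [local instance] HasDerivedCategory.standard

namespace Groth.Agent.K0Perf9

variable (X : Scheme.{u})

/-- Vector bundles. -/
abbrev FP : ObjectProperty X.Modules := fun M => FlatMod.IsFinLocFree M

/-- Perfect objects. -/
abbrev Pf : ObjectProperty (DCoh.D X) := fun K => DCoh.IsPerfect K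

variable {X}

theorem fp_of_isZero {M : X.Modules} (h : IsZero M) : FP X M := KFlat.Sch.isFinLocFree_of_isZero h

theorem fp_iso {M N : X.Modules} (e : M ≅ N) (h : FP X M) : FP X N := M2.isFinLocFree_of_iso e h

theorem fp_biprod {M N : X.Modules} (hM : FP X M) (hN : FP X N) : FP X (M ⊞ N) := KFlat.Sch.isFinLocFree_biprod hM hN

theorem clSub_iso {M N : X.Modules} (e : M ≅ N) (h : FP X M) :
    KZero.clSub (FP X) M = KZero.clSub (FP X) N := by
  have hZ : IsZero (cokernel (𝟙 M)) := isZero_cokernel_of_epi _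
  have hS : (ShortComplex.mk e.hom (0 : N ⟶ cokernel (𝟙 M)) comp_zero).ShortExact :=
    ShortComplex.shortExact_of_iso
      (ShortComplex.isoMk (S₁ := ShortComplex.mk (𝟙 M) (0 : M ⟶ cokernel (𝟙 M)) comp_zero)
        (Iso.refl _) e (Iso.refl _) (by simp) (by simp))
      (K0Cat.shortExact_id_zero hZ)
  have := K0Cat.clSub_ses (P := FP X) _ hS h (fp_iso e h) (fp_of_isZero hZ)
  simpa [K0Cat.clSub_of_isZero hZ (fp_of_isZero hZ)] using this.symm

theorem clSub_biprod {M N : X.Modules} (hM : FP X M) (hN : FP X N) :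
    KZero.clSub (FP X) (M ⊞ N) = KZero.clSub (FP X) M + KZero.clSub (FP X) N :=
  K0Cat.clSub_ses (P := FP X) _ (ShortComplex.Splitting.ofHasBinaryBiproduct M N).shortExact hM
    (fp_biprod hM hN) hN

/-- Bounded complexes of finite projective modules. -/
def Bdd (E : CochainComplex X.Modules ℤ) : Prop :=
  ∃ a b : ℤ, DCoh.VanishesOutside E a b ∧ ∀ i, FP X (E.X i)

/-- A summand of the Euler characteristic. -/
noncomputable def term (E : CochainComplex X.Modules ℤ) (i : ℤ) : KZero.K0sub (FP X) :=
  (i.negOnePow : ℤ) • KZero.clSub (FP X) (E.X i)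

/-- The Euler characteristic. -/
noncomputable def chi (E : CochainComplex X.Modules ℤ) : KZero.K0sub (FP X) := ∑ᶠ i, term E i

theorem term_eq_zero {E : CochainComplex X.Modules ℤ} {i : ℤ} (h : IsZero (E.X i)) : term E i = 0 := by
  rw [term, K0Cat.clSub_of_isZero (P := FP X) h (fp_of_isZero h), smul_zero]

theorem finite_support_term {E : CochainComplex X.Modules ℤ} (h : Bdd E) : (Function.support (term E)).Finite := by
  obtain ⟨a, b, hab, -⟩ := h
  refine (Set.finite_Icc a b).subset fun i hi => ?_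
  by_contra hc
  exact hi (term_eq_zero (hab i (by simp only [Set.mem_Icc, not_and_or, not_le] at hc; exact hc)))

theorem chi_eq_sum {E : CochainComplex X.Modules ℤ} {a b : ℤ} (h : DCoh.VanishesOutside E a b) :
    chi E = ∑ i ∈ Finset.Icc a b, term E i := by
  refine finsum_eq_sum_of_support_subset _ fun i hi => ?_
  simp only [Finset.coe_Icc, Set.mem_Icc]
  by_contra hc
  exact hi (term_eq_zero (h i (by simp only [not_and_or, not_le] at hc; exact hc)))

theorem negOnePow_succ_zsmul {G : Type*} [AddCommGroup G] (i : ℤ) (x : G) :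
    ((i + 1).negOnePow : ℤ) • x = -((i.negOnePow : ℤ) • x) := by
  rw [Int.negOnePow_succ]
  simp

theorem chi_of_acyclic {E : CochainComplex X.Modules ℤ} (h : Bdd E) (hE : ∀ i, E.ExactAt i) : chi E = 0 := by
  have hsp : DCoh.IsStrictlyPerfect E := let ⟨a, b, hab, hfp⟩ := h; ⟨⟨a, b, hab⟩, hfp⟩
  obtain ⟨a, b, hab, hfp⟩ := h
  let S : ℤ → ShortComplex (X.Modules) := fun i =>
    ShortComplex.mk (E.iCycles i) (E.toCycles i (i + 1)) (by
      rw [← cancel_mono (E.iCycles (i + 1)), Category.assoc, HomologicalComplex.toCycles_i,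
        HomologicalComplex.iCycles_d, zero_comp])
  have hS : ∀ i, (S i).ShortExact := fun i => by
    haveI : Epi (E.toCycles i (i + 1)) :=
      Preadditive.epi_of_isZero_cokernel' _ (E.homologyIsCokernel i (i + 1) (by simp))
        ((HomologicalComplex.exactAt_iff_isZero_homology _ _).1 (hE (i + 1)))
    exact ShortComplex.ShortExact.mk' (ShortComplex.exact_of_f_is_kernel _
      (isKernelOfComp (f := E.toCycles i (i + 1)) (E.iCycles (i + 1)) (E.d i (i + 1))
        (E.cyclesIsKernel i (i + 1) (by simp)) (S i).zero (E.toCycles_i i (i + 1))))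
      (inferInstanceAs (Mono (E.iCycles i))) (inferInstanceAs (Epi (E.toCycles i (i + 1))))
  have hz : ∀ i, b < i ∨ i < a → IsZero (E.cycles i) := fun i hi =>
    IsZero.of_mono (E.iCycles i) (hab i hi.symm)
  have hP' : ∀ i, FP X (E.cycles i) := fun i => DPerf.isFinLocFree_cycles hsp i fun j _ => hE j
  let z : ℤ → KZero.K0sub (FP X) := fun i => (i.negOnePow : ℤ) • KZero.clSub (FP X) (E.cycles i)
  have hzf : (Function.support z).Finite := (Set.finite_Icc a b).subset fun i hi => by
    by_contra hc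
    have hZ := hz i (by simp only [Set.mem_Icc, not_and_or, not_le] at hc; exact hc.symm)
    exact hi (show z i = 0 by simp [z, K0Cat.clSub_of_isZero (P := FP X) hZ (fp_of_isZero hZ)])
  have ht : term E = fun i => z i - z (i + 1) := funext fun i => by
    have := K0Cat.clSub_ses (P := FP X) _ (hS i) (hP' i) (hfp i) (hP' (i + 1))
    simp only [term, z, negOnePow_succ_zsmul, sub_neg_eq_add, ← smul_add]
    exact congrArg _ this
  have hzf' : (Function.support fun i => z (i + 1)).Finite :=
    hzf.preimage (add_left_injective (1 : ℤ)).injOn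
  rw [chi, ht, finsum_sub_distrib hzf hzf', sub_eq_zero]
  exact (finsum_comp_equiv (Equiv.addRight (1 : ℤ)) (f := z)).symm

/-- Euler characteristic of a cone. -/
theorem cone {E E' : CochainComplex X.Modules ℤ} (φ : E ⟶ E') (h : Bdd E) (h' : Bdd E') :
    Bdd (CochainComplex.mappingCone φ) ∧ chi (CochainComplex.mappingCone φ) = chi E' - chi E := by
  obtain ⟨a, b, hab, hfp⟩ := h
  obtain ⟨a', b', hab', hfp'⟩ := h'
  let e : ∀ i, (CochainComplex.mappingCone φ).X i ≅ E.X (i + 1) ⊞ E'.X i :=
    fun i => HomologicalComplex.homotopyCofiber.XIsoBiprod φ i (i + 1) rfl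
  have hfpc : ∀ i, FP X ((CochainComplex.mappingCone φ).X i) := fun i =>
    fp_iso (e i).symm (fp_biprod (hfp (i + 1)) (hfp' i))
  refine ⟨⟨min (a - 1) a', max (b - 1) b', fun i hi => ?_, hfpc⟩, ?_⟩
  · refine IsZero.of_iso ?_ (e i)
    rw [biprod_isZero_iff]
    exact ⟨hab _ (by omega), hab' _ (by omega)⟩
  have ht : term (CochainComplex.mappingCone φ) = fun i => term E' i - term E (i + 1) := funext fun i => by
    simp only [term, negOnePow_succ_zsmul, sub_neg_eq_add, ← smul_add]
    rw [clSub_iso (e i) (hfpc i), clSub_biprod (hfp (i + 1)) (hfp' i), add_comm]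
  have hf : (Function.support (term E)).Finite := finite_support_term ⟨a, b, hab, hfp⟩
  have hf' : (Function.support (term E')).Finite := finite_support_term ⟨a', b', hab', hfp'⟩
  rw [chi, ht, finsum_sub_distrib hf' (hf.preimage (add_left_injective (1 : ℤ)).injOn)]
  exact congrArg (_ - ·) (finsum_comp_equiv (Equiv.addRight (1 : ℤ)) (f := term E))

/-- Bounded complexes of bundles are perfect. -/
theorem pf_of_bdd {E : CochainComplex X.Modules ℤ} (h : Bdd E) : Pf X (DCoh.toD X E) :=
  let ⟨a, b, hab, hfp⟩ := h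
  DGen9.ResP.isPerfect_toD ⟨⟨a, b, hab⟩, hfp⟩

theorem strict_of_bdd {E : CochainComplex X.Modules ℤ} (h : Bdd E) : DCoh.IsStrictlyPerfect E :=
  let ⟨a, b, hab, hfp⟩ := h
  ⟨⟨a, b, hab⟩, hfp⟩

theorem bdd_of_strict {E : CochainComplex X.Modules ℤ} (h : DCoh.IsStrictlyPerfect E) : Bdd E :=
  let ⟨⟨a, b, hab⟩, hfp⟩ := h
  ⟨a, b, hab, hfp⟩

theorem chi_eq_of_qis {E E' : CochainComplex X.Modules ℤ} (h : Bdd E) (h' : Bdd E') (φ : E ⟶ E')
    (hφ : IsIso (DerivedCategory.Q.map φ)) : chi E = chi E' := by
  obtain ⟨hc, hχ⟩ := cone φ h h'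
  have hz : IsZero (DerivedCategory.Q.obj (CochainComplex.mappingCone φ)) :=
    (Triangle.isZero₃_iff_isIso₁ _ (DerivedCategory.mappingCone_triangle_distinguished φ)).2
      (inferInstanceAs (IsIso (DerivedCategory.Q.map φ)))
  have := chi_of_acyclic hc fun i => (HomologicalComplex.exactAt_iff_isZero_homology _ _).2
    (((DerivedCategory.homologyFunctor _ i).map_isZero hz).of_iso
      ((DerivedCategory.homologyFunctorFactors _ i).app _).symm)
  rw [hχ, sub_eq_zero] at this
  exact this.symm

variable [CompactSpace X] [QuasiSeparatedSpace X] (hX : PerfAux.HasResolutionProperty X)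

include hX in
/-- Roofs between bounded complexes of bundles. -/
theorem exists_roof {E F : CochainComplex X.Modules ℤ} (h : Bdd E) (h' : Bdd F)
    (α : DCoh.toD X E ⟶ DCoh.toD X F) :
    ∃ (G : CochainComplex X.Modules ℤ) (g : G ⟶ E) (φ : G ⟶ F), Bdd G ∧ IsIso (DerivedCategory.Q.map g) ∧
      DerivedCategory.Q.map g ≫ α = DerivedCategory.Q.map φ := by
  obtain ⟨G, g, φ, hG, hg, hgα⟩ := S1037.result X hX E F (strict_of_bdd h) (strict_of_bdd h') α
  exact ⟨G, g, φ, bdd_of_strict hG, inferInstance, hgα⟩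

include hX in
theorem chi_eq_of_iso {E E' : CochainComplex X.Modules ℤ} (h : Bdd E) (h' : Bdd E') (e : DCoh.toD X E ≅ DCoh.toD X E') :
    chi E = chi E' := by
  obtain ⟨G, g, φ, hG, hg, hgφ⟩ := exists_roof hX h h' e.hom
  rw [← chi_eq_of_qis hG h g hg, chi_eq_of_qis hG h' φ (hgφ ▸ IsIso.comp_isIso' hg inferInstance)]

include hX in
theorem exists_rep (K : Subtype (Pf X)) : ∃ E : CochainComplex X.Modules ℤ, Bdd E ∧ Nonempty (DCoh.toD X E ≅ K.1) :=
  let ⟨E, hE, he⟩ := S1036.result X hX K.1 K.2
  ⟨E, bdd_of_strict hE, he⟩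

/-- A chosen representative. -/
noncomputable def rep (K : Subtype (Pf X)) : CochainComplex X.Modules ℤ := (exists_rep hX K).choose

theorem bdd_rep (K : Subtype (Pf X)) : Bdd (rep hX K) := (exists_rep hX K).choose_spec.1

/-- The representative is isomorphic. -/
noncomputable def repIso (K : Subtype (Pf X)) : DCoh.toD X (rep hX K) ≅ K.1 := (exists_rep hX K).choose_spec.2.some

variable (X) in
/-- The Euler characteristic on perfect objects. -/
noncomputable def euler : KZero.K0tr (Pf X) →+ KZero.K0sub (FP X) :=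
  K0Cat.liftTr (fun K => chi (rep hX K)) fun T h₁ h₂ h₃ hT => by
    let X₁ : Subtype (Pf X) := ⟨T.obj₁, h₁⟩
    let X₂ : Subtype (Pf X) := ⟨T.obj₂, h₂⟩
    let X₃ : Subtype (Pf X) := ⟨T.obj₃, h₃⟩
    obtain ⟨G, g, φ, hG, hg, hgφ⟩ :=
      exists_roof hX (bdd_rep hX X₁) (bdd_rep hX X₂) ((repIso hX X₁).hom ≫ T.mor₁ ≫ (repIso hX X₂).inv)
    obtain ⟨hc, hχ⟩ := cone φ hG (bdd_rep hX X₂)
    let e := isoTriangleOfIso₁₂ _ T (DerivedCategory.mappingCone_triangle_distinguished φ) hT
      (asIso (DerivedCategory.Q.map g) ≪≫ repIso hX X₁) (repIso hX X₂) (by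
        show DerivedCategory.Q.map φ ≫ (repIso hX X₂).hom = (DerivedCategory.Q.map g ≫ (repIso hX X₁).hom) ≫ T.mor₁
        rw [← hgφ]; simp)
    show chi (rep hX X₂) = chi (rep hX X₁) + chi (rep hX X₃)
    rw [chi_eq_of_iso hX (bdd_rep hX X₃) hc (repIso hX X₃ ≪≫ (Triangle.π₃.mapIso e).symm), hχ,
      chi_eq_of_qis hG (bdd_rep hX X₁) g hg]
    abel

theorem euler_toD {E : CochainComplex X.Modules ℤ} (h : Bdd E) :
    euler X hX (KZero.clTr (Pf X) (DCoh.toD X E)) = chi E := by
  rw [euler, K0Cat.liftTr_clTr _ _ (pf_of_bdd h)]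
  exact chi_eq_of_iso hX (bdd_rep hX _) h (repIso hX _)

omit [CompactSpace X] [QuasiSeparatedSpace X]

/-- A module in a degree. -/
noncomputable abbrev sgl (n : ℤ) (M : X.Modules) : CochainComplex X.Modules ℤ :=
  (HomologicalComplex.single _ (ComplexShape.up ℤ) n).obj M

theorem bdd_sgl (n : ℤ) {M : X.Modules} (h : FP X M) : Bdd (sgl n M) := by
  refine ⟨n, n, fun i hi => HomologicalComplex.isZero_single_obj_X _ _ _ _ (by omega), fun i => ?_⟩
  by_cases hi : i = n
  · subst hi
    exact fp_iso (HomologicalComplex.singleObjXSelf _ i M).symm h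
  · exact fp_of_isZero (HomologicalComplex.isZero_single_obj_X _ _ _ _ hi)

theorem chi_sgl {M : X.Modules} (h : FP X M) : chi (sgl 0 M) = KZero.clSub (FP X) M := by
  have hv : DCoh.VanishesOutside (sgl 0 M) 0 0 := fun i hi =>
    HomologicalComplex.isZero_single_obj_X _ _ _ _ (by omega)
  rw [chi_eq_sum hv, Finset.Icc_self, Finset.sum_singleton, term,
    ← clSub_iso (HomologicalComplex.singleObjXSelf (ComplexShape.up ℤ) 0 M).symm h]
  simp

/-- The object `M[-n]`. -/
noncomputable abbrev sD (n : ℤ) (M : X.Modules) : DCoh.D X :=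
  (DerivedCategory.singleFunctor _ n).obj M

theorem pf_sD (n : ℤ) {M : X.Modules} (h : FP X M) : Pf X (sD n M) :=
  DGen9.isPerfect_of_iso ((DerivedCategory.singleFunctorIsoCompQ _ n).app M).symm (pf_of_bdd (bdd_sgl n h))

theorem pf_isZero {Z : DCoh.D X} (hZ : IsZero Z) : Pf X Z :=
  DGen9.isPerfect_of_iso (((DerivedCategory.singleFunctor X.Modules 0).map_isZero (isZero_zero _)).iso hZ)
    (pf_sD 0 (fp_of_isZero (isZero_zero _)))

theorem clTr_iso {K L : DCoh.D X} (e : K ≅ L) (hK : Pf X K) (hL : Pf X L) :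
    KZero.clTr (Pf X) K = KZero.clTr (Pf X) L :=
  K0Cat.clTr_iso e (isZero_zero _) hK hL (pf_isZero (isZero_zero _))

variable (X) in
/-- A module as a perfect complex. -/
noncomputable def toTr : KZero.K0sub (FP X) →+ KZero.K0tr (Pf X) :=
  K0Cat.liftSub (fun M => KZero.clTr (Pf X) (sD 0 M.1)) fun S h₁ h₂ h₃ hS =>
    K0Cat.clTr_tri _ hS.singleTriangle_distinguished (pf_sD 0 h₁) (pf_sD 0 h₂) (pf_sD 0 h₃)

theorem toTr_clSub {M : X.Modules} (h : FP X M) :
    toTr X (KZero.clSub (FP X) M) = KZero.clTr (Pf X) (sD 0 M) :=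
  K0Cat.liftSub_clSub _ _ h

theorem clTr_sD (n : ℤ) {M : X.Modules} (h : FP X M) :
    KZero.clTr (Pf X) (sD n M) = (n.negOnePow : ℤ) • KZero.clTr (Pf X) (sD 0 M) := by
  have step : ∀ m : ℤ, KZero.clTr (Pf X) (sD m M) = -KZero.clTr (Pf X) (sD (m + 1) M) := fun m => by
    let e := ((DerivedCategory.singleFunctors (X.Modules)).shiftIso 1 m (m + 1) (by omega)).app M
    have hp : Pf X ((sD (m + 1) M)⟦(1 : ℤ)⟧) := by
      exact DGen9.isPerfect_of_iso e.symm (pf_sD m h)
    rw [← clTr_iso e hp (pf_sD m h)]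
    exact K0Cat.clTr_shift_one (isZero_zero _) (pf_sD (m + 1) h) hp (pf_isZero (isZero_zero _))
  induction n using Int.induction_on with
  | zero => simp
  | succ k ih =>
    rw [negOnePow_succ_zsmul, ← ih, step k, neg_neg]
  | pred k ih =>
    have := step (-(k : ℤ) - 1)
    rw [sub_add_cancel] at this
    rw [this, ih]
    have h2 := negOnePow_succ_zsmul (-(k : ℤ) - 1) (KZero.clTr (Pf X) (sD 0 M))
    rw [sub_add_cancel] at h2
    rw [h2, neg_neg]

theorem clTr_toD : ∀ (k : ℕ) (E : CochainComplex X.Modules ℤ) (a b : ℤ), b < a + k → DCoh.VanishesOutside E a b →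
    (∀ i, FP X (E.X i)) → KZero.clTr (Pf X) (DCoh.toD X E) = toTr X (chi E) := by
  intro k
  induction k with
  | zero =>
    intro E a b hk hab hfp
    have hz : IsZero E := by
      rw [IsZero.iff_id_eq_zero]
      ext1 i
      exact (hab i (by omega)).eq_of_src _ _
    have hz' := (DerivedCategory.Q (C := X.Modules)).map_isZero hz
    rw [K0Cat.clTr_of_isZero hz' (pf_isZero hz'), chi, finsum_eq_zero_of_forall_eq_zero
      (fun i => term_eq_zero (hab i (by omega))), map_zero]
  | succ k ih =>
    intro E a b hk hab hfp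
    let E' := KFlat.brutGE E (a + 1)
    have hfp' : ∀ i, FP X (E'.X i) := fun i => by
      by_cases hi : a + 1 ≤ i
      · exact fp_iso (KFlat.brutIso E hi).symm (hfp i)
      · exact fp_of_isZero (KFlat.brutGE_isZero E (by omega))
    have hab' : DCoh.VanishesOutside E' (a + 1) b := fun i hi => by
      by_cases hi' : a + 1 ≤ i
      · exact (hab i (by omega)).of_iso (KFlat.brutIso E hi')
      · exact KFlat.brutGE_isZero E (by omega)
    let p : E ⟶ sgl a (E.X a) := HomologicalComplex.mkHomToSingle (𝟙 _) fun i hi => by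
      have hi' : i + 1 = a := hi
      exact (hab i (by omega)).eq_of_src _ _
    have hw : KFlat.brutι E (a + 1) ≫ p = 0 := HomologicalComplex.to_single_hom_ext
      ((KFlat.brutGE_isZero E (by omega)).eq_of_src _ _)
    let S := ShortComplex.mk _ _ hw
    have hS : S.ShortExact := HomologicalComplex.shortExact_of_degreewise_shortExact _ fun i => by
      rcases lt_trichotomy i a with h | h | h
      · exact ShortComplex.Splitting.shortExact
          { r := 0
            s := 0
            f_r := (KFlat.brutGE_isZero E (by omega)).eq_of_src _ _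
            s_g := (HomologicalComplex.isZero_single_obj_X (ComplexShape.up ℤ) a (E.X a) i h.ne).eq_of_src _ _
            id := (hab i (Or.inl h)).eq_of_src _ _ }
      · subst h
        exact ShortComplex.Splitting.shortExact
          { r := 0
            s := (HomologicalComplex.singleObjXSelf (ComplexShape.up ℤ) i (E.X i)).hom
            f_r := (KFlat.brutGE_isZero E (by omega)).eq_of_src _ _
            s_g := by
              show (HomologicalComplex.singleObjXSelf (ComplexShape.up ℤ) i (E.X i)).hom ≫ p.f i = _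
              simp [p]
              rfl
            id := by
              show (0 : E.X i ⟶ _) ≫ _ + p.f i ≫ _ = 𝟙 _
              simp [p]
              rfl }
      · exact ShortComplex.Splitting.shortExact
          { r := (KFlat.brutIso E (show a + 1 ≤ i by omega)).inv
            s := 0
            f_r := by
              show (KFlat.brutι E (a + 1)).f i ≫ _ = _
              rw [KFlat.brutι_f E (show a + 1 ≤ i by omega), Iso.hom_inv_id]
              rfl
            s_g := (HomologicalComplex.isZero_single_obj_X (ComplexShape.up ℤ) a (E.X a) i h.ne').eq_of_src _ _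
            id := by
              show (KFlat.brutIso E (show a + 1 ≤ i by omega)).inv ≫ (KFlat.brutι E (a + 1)).f i + _ = _
              rw [KFlat.brutι_f E (show a + 1 ≤ i by omega)]
              simp
              rfl }
    have hE : Bdd E := ⟨a, b, hab, hfp⟩
    have htri := K0Cat.clTr_tri (P := Pf X) _ (DerivedCategory.triangleOfSES_distinguished hS)
      (pf_of_bdd ⟨_, _, hab', hfp'⟩) (pf_of_bdd hE) (pf_of_bdd (bdd_sgl a (hfp a)))
    change KZero.clTr (Pf X) (DCoh.toD X E) = KZero.clTr (Pf X) (DCoh.toD X E') +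
      KZero.clTr (Pf X) (DCoh.toD X (sgl a (E.X a))) at htri
    have hs : KZero.clTr (Pf X) (DCoh.toD X (sgl a (E.X a))) = KZero.clTr (Pf X) (sD a (E.X a)) :=
      (clTr_iso ((DerivedCategory.singleFunctorIsoCompQ _ a).app (E.X a)) (pf_sD a (hfp a))
        (pf_of_bdd (bdd_sgl a (hfp a)))).symm
    rw [htri, ih E' (a + 1) b (by omega) hab' hfp', hs, clTr_sD a (hfp a), ← toTr_clSub (hfp a), ← map_zsmul,
      ← map_add]
    congr 1
    rw [chi_eq_sum hab, chi_eq_sum hab']
    by_cases hb : a ≤ b
    · have hI : Finset.Icc a b = insert a (Finset.Icc (a + 1) b) := by ext; simp; omega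
      rw [hI, Finset.sum_insert (by simp), add_comm]
      refine congrArg₂ (· + ·) rfl (Finset.sum_congr rfl fun i hi => ?_)
      simp only [term]
      rw [clSub_iso (KFlat.brutIso E (Finset.mem_Icc.1 hi).1) (hfp' i)]
    · rw [Finset.Icc_eq_empty hb, Finset.Icc_eq_empty (by omega),
        K0Cat.clSub_of_isZero (P := FP X) (hab a (by omega)) (hfp a)]
      simp

theorem clTr_toD' {E : CochainComplex X.Modules ℤ} {a b : ℤ} (h : DCoh.VanishesOutside E a b)
    (h' : ∀ i, FP X (E.X i)) : KZero.clTr (Pf X) (DCoh.toD X E) = toTr X (chi E) :=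
  clTr_toD ((b - a).toNat + 1) E a b (by omega) h h'

variable [CompactSpace X] [QuasiSeparatedSpace X]

variable (X) in
/-- The equivalence. -/
noncomputable def equiv : KZero.K0sub (FP X) ≃+ KZero.K0tr (Pf X) where
  toFun := toTr X
  invFun := euler X hX
  left_inv x := by
    induction x using K0Cat.clSub_induction with
    | h0 => simp
    | hcl M hM =>
      rw [toTr_clSub hM, clTr_iso ((DerivedCategory.singleFunctorIsoCompQ _ 0).app M) (pf_sD 0 hM)
        (pf_of_bdd (bdd_sgl 0 hM))]
      exact (euler_toD hX (bdd_sgl 0 hM)).trans (chi_sgl hM)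
    | hneg a ha => rw [map_neg, map_neg, ha]
    | hadd a b ha hb => rw [map_add, map_add, ha, hb]
  right_inv x := by
    induction x using K0Cat.clTr_induction with
    | h0 => simp
    | hcl Z hZ =>
      let Y : Subtype (Pf X) := ⟨Z, hZ⟩
      rw [← clTr_iso (repIso hX Y) (pf_of_bdd (bdd_rep hX Y)) hZ, euler_toD hX (bdd_rep hX Y)]
      obtain ⟨a, b, hab, hfp⟩ := bdd_rep hX Y
      exact (clTr_toD' hab hfp).symm
    | hneg a ha => rw [map_neg, map_neg, ha]
    | hadd a b ha hb => rw [map_add, map_add, ha, hb]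
  map_add' := map_add _

end Groth.Agent.K0Perf9
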